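import Cfsg.Agent.H15.PSubTwo.Main
import Cfsg.Agent.H15.Degree.Main
import Cfsg.Agent.H14.SmallDegreeSylow
import Cfsg.Agent.H14.Deg16.Reduce
import Cfsg.Agent.H70.SL2Facts
import Mathlib.FieldTheory.Finite.GaloisField

/-!
Faithful characters of degree below `27` and primes `p > 7` with `d + 1 < p`: the assembly from a
reduction of the Sylow subgroup to order `p`.
-/

set_option autoImplicit false
set_option linter.unusedSectionVars false
set_option linter.style.haveILetI false

open Cfsg
open scoped MatrixGroups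

namespace H17.SmallDeg

universe u

theorem arith {p d f t : ℕ} (hp : p.Prime) (hp7 : 7 < p) (hd : d < 27) (hdp : d + 1 < p)
    (h1 : f * t + 1 = p) (ht : 3 ≤ t) (h2 : d + f = p) (h3 : f = 2 ∨ (Odd f ∧ f + 3 ≤ t)) :
    d = p - 2 ∨ (p = 19 ∧ d = 16) := by
  rcases h3 with rfl | ⟨hodd, hft⟩
  · left; omega
  · right
    obtain ⟨k, rfl⟩ := hodd
    have hk1 : 1 ≤ k := by
      rcases Nat.eq_zero_or_pos k with rfl | h
      · omega
      · exact h
    have h4 : 3 * t ≤ (2 * k + 1) * t := Nat.mul_le_mul_right t (by omega)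
    have hmul : (2 * k + 1) * t + 1 = d + (2 * k + 1) := by omega
    have hk : k ≤ 3 := by
      by_contra hc
      have : 9 * t ≤ (2 * k + 1) * t := Nat.mul_le_mul_right t (by omega)
      have h9 : (2 * k + 1) * (2 * k + 4) ≤ (2 * k + 1) * t := Nat.mul_le_mul_left _ (by omega)
      nlinarith
    interval_cases k <;> simp only [Nat.reduceMul, Nat.reduceAdd] at * <;>
      (first
        | omega
        | (have ht9 : t ≤ 9 := by omega
           interval_cases t <;> norm_num at h1 <;> subst h1 <;> norm_num at hp <;> omega))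

theorem pow_two_add_one {p m : ℕ} (hp7 : 7 < p) (hp : p ≤ 28) (hprime : p.Prime)
    (h : p = 2 ^ m + 1) : p = 17 ∧ m = 4 := by
  have hm : m < 5 := by
    by_contra hc
    have : 2 ^ 5 ≤ 2 ^ m := Nat.pow_le_pow_right (by norm_num) (by omega)
    omega
  interval_cases m <;> norm_num at h <;> subst h <;> (first | omega | norm_num at hprime)

variable {G : Type u} [Group G] [Finite G]

/-- `SL(2, 16)` splits off when a quotient by a central subgroup is `SL(2, 16)` times an abelian
group and the group has a faithful character of degree `p - 2`. -/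
theorem lift_seventeen {p d : ℕ} [hp : Fact p.Prime] (hp17 : p = 17) (hd : d = 15) (P : Sylow p G)
    (hnn : ¬ (P : Subgroup G).Normal) (χ : G → ℂ) (hχ : IsIrrCharacter G χ)
    (hfaith : ∀ g : G, χ g = χ 1 → g = 1) (hdeg : H12.degree χ = d)
    (K : Subgroup G) [K.Normal] (hKZ : K ≤ Subgroup.center G)
    (hKc : ∀ g : G, (g : G ⧸ K) ∈ Subgroup.center (G ⧸ K) → g ∈ Subgroup.center G)
    (Q : Sylow p (G ⧸ K)) (hQc : Nat.card Q = p) (hQn : ¬ (Q : Subgroup (G ⧸ K)).Normal)
    {F : Type} [Field F] [Fintype F] (hF : Fintype.card F = 16)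
    (e : (G ⧸ K) ≃* SL(2, F) × Subgroup.center (G ⧸ K)) :
    ∃ (A : Type) (_ : CommGroup A) (_ : Finite A),
      Nonempty (G ≃* Matrix.SpecialLinearGroup (Fin 2) (GaloisField 2 4) × A) := by
  classical
  letI : Fintype G := Fintype.ofFinite G
  have hperf : commutator SL(2, F) = ⊤ := H70.sl2_perfect (by omega)
  set L := commutator G with hL
  -- `G = G' Z(G)`
  have hGL : ∀ g : G, ∃ l : L, (l : G)⁻¹ * g ∈ Subgroup.center G := by
    intro g
    set j : SL(2, F) →* G ⧸ K := e.symm.toMonoidHom.comp (MonoidHom.inl _ _) with hj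
    have hjs : j (e (g : G ⧸ K)).1 ∈ L.map (QuotientGroup.mk' K) := by
      have h1 : j (e (g : G ⧸ K)).1 ∈ (commutator SL(2, F)).map j :=
        Subgroup.mem_map_of_mem j (by rw [hperf]; trivial)
      rw [commutator_def, Subgroup.map_commutator] at h1
      rw [hL, commutator_def, Subgroup.map_commutator,
        Subgroup.map_top_of_surjective _ (QuotientGroup.mk'_surjective K)]
      exact Subgroup.commutator_mono le_top le_top h1
    obtain ⟨l, hl, hle⟩ := hjs
    refine ⟨⟨l, hl⟩, hKc _ ?_⟩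
    have hdec : (g : G ⧸ K) = j (e (g : G ⧸ K)).1 * e.symm (1, (e (g : G ⧸ K)).2) := by
      show _ = e.symm ((e (g : G ⧸ K)).1, 1) * _
      rw [← map_mul]
      simp
    have hcz : e.symm (1, (e (g : G ⧸ K)).2) ∈ Subgroup.center (G ⧸ K) := by
      refine Subgroup.mem_center_iff.2 fun q => ?_
      apply e.injective
      simp only [map_mul, MulEquiv.apply_symm_apply]
      refine Prod.ext (by simp) ?_
      simp only [Prod.snd_mul]
      exact Subtype.ext (Subgroup.mem_center_iff.1 ((e (g : G ⧸ K)).2).2 _)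
    have heq : (((⟨l, hl⟩ : L) : G)⁻¹ * g : G ⧸ K) = e.symm (1, (e (g : G ⧸ K)).2) := by
      show ((QuotientGroup.mk' K) l)⁻¹ * (g : G ⧸ K) = _
      rw [hle]
      nth_rw 2 [hdec]
      rw [inv_mul_cancel_left]
    show ((QuotientGroup.mk' K) l)⁻¹ * (g : G ⧸ K) ∈ _
    have heq' : ((QuotientGroup.mk' K) l)⁻¹ * (g : G ⧸ K) = e.symm (1, (e (g : G ⧸ K)).2) := heq
    rw [heq']
    exact hcz
  have hab : ∀ R : Sylow p G, ∀ a ∈ (R : Subgroup G), ∀ b ∈ (R : Subgroup G), a * b = b * a :=
    fun R => H14.SmallDegree.sylow_comm R (H12.isCharacter_of_isIrrCharacter hχ) hfaith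
      (n := d) (by rw [H12.IsCharacter.apply_one_eq_degree (H12.isCharacter_of_isIrrCharacter hχ),
        hdeg]) (by omega)
  -- `p` divides the order of `G'`
  have hpL : p ∣ Nat.card L := by
    by_contra hpd
    refine hnn ?_
    have hPZ : (P : Subgroup G) ≤ Subgroup.center G := by
      intro x hx
      obtain ⟨l, hl⟩ := hGL x
      have hxl : ((x : G) : G ⧸ Subgroup.center G) = ((l : G) : G ⧸ Subgroup.center G) :=
        (QuotientGroup.eq.2 hl).symm
      obtain ⟨k, hk⟩ := P.isPGroup' ⟨x, hx⟩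
      have h1 : ((x : G) : G ⧸ Subgroup.center G) ^ (p ^ k) = 1 := by
        rw [← QuotientGroup.mk_pow]
        rw [show x ^ p ^ k = 1 from congrArg Subtype.val hk, QuotientGroup.mk_one]
      have h2 : ((x : G) : G ⧸ Subgroup.center G) ^ Nat.card L = 1 := by
        rw [hxl, ← QuotientGroup.mk_pow, ← Subgroup.coe_pow, pow_card_eq_one', Subgroup.coe_one,
          QuotientGroup.mk_one]
      have h3 := pow_gcd_eq_one (a := ((x : G) : G ⧸ Subgroup.center G)) |>.2 ⟨h1, h2⟩
      rw [Nat.Coprime.pow_left k (hp.out.coprime_iff_not_dvd.2 hpd), pow_one] at h3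
      exact (QuotientGroup.eq_one_iff x).1 h3
    exact ⟨fun x hx g => by
      rw [Subgroup.mem_center_iff.1 (hPZ hx) g, mul_inv_cancel_right]; exact hx⟩
  -- a Sylow subgroup of `G'`
  obtain ⟨P'⟩ : Nonempty (Sylow p L) := inferInstance
  set φ : (P' : Subgroup L) →* G ⧸ K :=
    ((QuotientGroup.mk' K).comp L.subtype).comp (P' : Subgroup L).subtype with hφ
  have hφi : Function.Injective φ := by
    rw [injective_iff_map_eq_one]
    intro x hx
    have hxK : ((x : L) : G) ∈ K := (QuotientGroup.eq_one_iff _).1 hx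
    obtain ⟨R, hR⟩ := (P'.isPGroup'.map L.subtype).exists_le_sylow
    have := H14.SmallDegree.eq_one_of_center R (hab R) (hR ⟨x, x.2, rfl⟩) (hKZ hxK) (x : L).2
    exact Subtype.ext (Subtype.ext this)
  set R := ((P' : Subgroup L).map L.subtype).map (QuotientGroup.mk' K) with hRdef
  have hRp : IsPGroup p R := (P'.isPGroup'.map L.subtype).map (QuotientGroup.mk' K)
  have hRc : Nat.card R = Nat.card P' := by
    have h1 : R = φ.range := by
      rw [hRdef, hφ, MonoidHom.range_eq_map, ← Subgroup.map_map, ← Subgroup.map_map,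
        ← MonoidHom.range_eq_map, Subgroup.range_subtype]
    rw [h1]
    exact Nat.card_congr (MonoidHom.ofInjective hφi).toEquiv.symm
  have hcard : Nat.card P' = p := by
    obtain ⟨k, hk⟩ := IsPGroup.iff_card.1 P'.isPGroup'
    have h1 : Nat.card R ≤ p := by
      obtain ⟨Q', hQ'⟩ := hRp.exists_le_sylow
      calc Nat.card R ≤ Nat.card Q' := Subgroup.card_le_of_le hQ'
        _ = Nat.card Q := Nat.card_congr (Sylow.equiv Q' Q).toEquiv
        _ = p := hQc
    rw [hRc, hk] at h1
    have hk0 : k ≠ 0 := by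
      rintro rfl
      have h2 := P'.not_dvd_index
      have h3 := Subgroup.card_mul_index (P' : Subgroup L)
      rw [hk, pow_zero, one_mul] at h3
      exact h2 (h3 ▸ hpL)
    rcases k with _ | _ | k
    · exact absurd rfl hk0
    · simpa using hk
    · exfalso
      have : p ^ 2 ≤ p ^ (k + 1 + 1) := Nat.pow_le_pow_right hp.out.pos (by omega)
      nlinarith [hp.out.two_le]
  have hP'n : ¬ (P' : Subgroup L).Normal := by
    intro hN
    haveI := Sylow.characteristic_of_normal P' hN
    haveI : ((P' : Subgroup L).map L.subtype).Normal := inferInstance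
    haveI hRn : R.Normal := Subgroup.Normal.map inferInstance _ (QuotientGroup.mk'_surjective K)
    obtain ⟨Q', hQ'⟩ := hRp.exists_le_sylow
    obtain ⟨g, hg⟩ := MulAction.exists_smul_eq (G ⧸ K) Q' Q
    have hle : R ≤ (Q : Subgroup (G ⧸ K)) := by
      rw [← hg]
      intro x hx
      exact ⟨g⁻¹ * x * g, hQ' (by simpa using hRn.conj_mem x hx g⁻¹), by simp [mul_assoc]⟩
    have := Subgroup.eq_of_le_of_card_ge hle (by rw [hRc, hcard, hQc])
    exact hQn (this ▸ hRn)
  -- the restricted character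
  obtain ⟨n, ρ, hρi, hρ⟩ := id hχ
  have hirr : IsIrrCharacter L (fun l : L => χ l) := by
    refine ⟨n, (ρ.comp L.subtype : Representation ℂ L (Fin n → ℂ)),
      H15.PSubTwo.isIrreducible_res ρ hρi L hGL, funext fun l => ?_⟩
    show LinearMap.trace ℂ _ (ρ (l : G)) = _
    rw [← hρ]
    rfl
  obtain ⟨m, F', iF', iFF', hpm, hF', ⟨e'⟩⟩ := H15.PSubTwo.main (by omega) P' hcard hP'n
    (fun l : L => χ l) hirr
    (fun l hl => Subtype.ext (hfaith _ hl))
    (by
      show H12.degree _ = _
      unfold H12.degree at hdeg ⊢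
      rw [show p - 2 = d by omega, ← hdeg]
      rfl)
  obtain ⟨-, rfl⟩ := pow_two_add_one (by omega) (by omega) hp.out hpm
  -- `G'` is perfect
  have hLperf : commutator L = ⊤ := by
    have h1 : L ≤ (commutator L).map L.subtype := by
      conv_lhs => rw [hL, commutator_def, Subgroup.commutator_def]
      rw [Subgroup.closure_le]
      rintro _ ⟨a, -, b, -, rfl⟩
      obtain ⟨l, hl⟩ := hGL a
      obtain ⟨k, hk⟩ := hGL b
      refine ⟨l * k * l⁻¹ * k⁻¹, Subgroup.commutator_mem_commutator (Subgroup.mem_top l)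
        (Subgroup.mem_top k), ?_⟩
      have hz := Subgroup.mem_center_iff.1 hl
      have hw := Subgroup.mem_center_iff.1 hk
      set z := (l : G)⁻¹ * a
      set w := (k : G)⁻¹ * b
      have c1 : ∀ y : G, z * y * z⁻¹ = y := fun y => by rw [← hz y, mul_inv_cancel_right]
      have c2 : ∀ y : G, w * y * w⁻¹ = y := fun y => by rw [← hw y, mul_inv_cancel_right]
      rw [show a = l * z from (mul_inv_cancel_left _ _).symm,
        show b = k * w from (mul_inv_cancel_left _ _).symm]
      show (l : G) * k * (l : G)⁻¹ * (k : G)⁻¹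
        = (l * z) * (k * w) * (l * z)⁻¹ * (k * w)⁻¹
      symm
      calc (l : G) * z * (k * w) * (l * z)⁻¹ * (k * w)⁻¹
          = l * (z * (k * w) * z⁻¹) * (l : G)⁻¹ * (k * w)⁻¹ := by group
        _ = l * (k * w) * (l : G)⁻¹ * (k * w)⁻¹ := by rw [c1]
        _ = l * k * (w * (l : G)⁻¹ * w⁻¹) * (k : G)⁻¹ := by group
        _ = l * k * (l : G)⁻¹ * (k : G)⁻¹ := by rw [c2]
    refine eq_top_iff.2 fun x _ => ?_
    obtain ⟨y, hy, hyx⟩ := h1 x.2
    rwa [← Subtype.ext (a1 := y) (a2 := x) hyx]
  have hZL : Subgroup.center L = ⊥ := by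
    set s : L →* Subgroup.center L := (MonoidHom.snd _ _).comp e'.toMonoidHom with hs
    have h1 : commutator L ≤ s.ker := by
      rw [commutator_def, Subgroup.commutator_le]
      intro a _ b _
      have : s a * s b = s b * s a :=
        Subtype.ext (Subgroup.mem_center_iff.1 (s b).2 _)
      rw [MonoidHom.mem_ker, map_commutatorElement, commutatorElement_eq_one_iff_mul_comm.2 this]
    rw [hLperf, top_le_iff] at h1
    refine eq_bot_iff.2 fun z hz => ?_
    have h2 : s (e'.symm (1, ⟨z, hz⟩)) = 1 := MonoidHom.mem_ker.1 (h1 ▸ Subgroup.mem_top _)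
    simp [hs] at h2
    exact h2
  -- the product
  let ψ : L × Subgroup.center G →* G :=
    MonoidHom.noncommCoprod L.subtype (Subgroup.center G).subtype
      fun a z => Subgroup.mem_center_iff.1 z.2 a
  have hψ : Function.Bijective ψ := by
    refine ⟨(injective_iff_map_eq_one ψ).2 ?_, ?_⟩
    · rintro ⟨a, z⟩ h
      have h' : (a : G) * z = 1 := h
      have ha : a ∈ Subgroup.center L := by
        refine Subgroup.mem_center_iff.2 fun b => Subtype.ext ?_
        have : (a : G) ∈ Subgroup.center G := by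
          rw [eq_inv_of_mul_eq_one_left h']
          exact inv_mem z.2
        exact Subgroup.mem_center_iff.1 this b
      rw [hZL, Subgroup.mem_bot] at ha
      subst ha
      simp only [OneMemClass.coe_one, one_mul] at h'
      exact Prod.ext rfl (Subtype.ext h')
    · intro g
      obtain ⟨l, hl⟩ := hGL g
      exact ⟨(l, ⟨_, hl⟩), mul_inv_cancel_left _ _⟩
  -- fields with sixteen elements
  haveI := Fintype.ofFinite (GaloisField 2 4)
  have hcardF : Fintype.card F' = Fintype.card (GaloisField 2 4) := by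
    rw [hF', Fintype.card_eq_nat_card, GaloisField.card 2 4 (by norm_num)]
  let r : F' ≃+* GaloisField 2 4 := FiniteField.ringEquivOfCardEq hcardF
  let eS : SL(2, F') ≃* Matrix.SpecialLinearGroup (Fin 2) (GaloisField 2 4) :=
    MonoidHom.toMulEquiv (Matrix.SpecialLinearGroup.map (r : F' →+* GaloisField 2 4))
      (Matrix.SpecialLinearGroup.map (r.symm : GaloisField 2 4 →+* F'))
      (by ext x i j; simp)
      (by ext x i j; simp)
  haveI : Unique (Subgroup.center L) := ⟨⟨1⟩, fun x => Subtype.ext (by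
    have h := x.2
    simp only [hZL, Subgroup.mem_bot] at h
    simpa using h)⟩
  let eL : L ≃* Matrix.SpecialLinearGroup (Fin 2) (GaloisField 2 4) :=
    (e'.trans MulEquiv.prodUnique).trans eS
  letI iC : CommGroup (Subgroup.center G) :=
    { (inferInstance : Group (Subgroup.center G)) with
      mul_comm := fun a b => Subtype.ext (Subgroup.mem_center_iff.1 b.2 a) }
  refine ⟨Shrink.{0} (Subgroup.center G), (equivShrink _).symm.commGroup,
    Finite.of_equiv _ (equivShrink _), ⟨?_⟩⟩
  exact (MulEquiv.ofBijective ψ hψ).symm.trans (eL.prodCongr (Shrink.mulEquiv).symm)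

/-- The case `p > 7` of the classification of faithful characters of degree below `27`. -/
theorem large {p d : ℕ} [Fact p.Prime] (hp7 : 7 < p) (hd : d < 27) (hp : d + 1 < p)
    (P : Sylow p G) (hnn : ¬ (P : Subgroup G).Normal) (χ : G → ℂ) (hχ : IsIrrCharacter G χ)
    (hfaith : ∀ g : G, χ g = χ 1 → g = 1) (hdeg : H12.degree χ = d)
    (hred : ∃ (K : Subgroup G) (_ : K.Normal), K ≤ Subgroup.center G ∧
      (∀ g : G, (g : G ⧸ K) ∈ Subgroup.center (G ⧸ K) → g ∈ Subgroup.center G) ∧
      ∃ Q : Sylow p (G ⧸ K), Nat.card Q = p ∧ ¬ (Q : Subgroup (G ⧸ K)).Normal ∧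
        ∃ ζ : G ⧸ K → ℂ, IsIrrCharacter (G ⧸ K) ζ ∧ (∀ g, ζ g = ζ 1 → g = 1) ∧
          H12.degree ζ = d) :
    (Nonempty (G ⧸ Subgroup.center G ≃* Matrix.ProjectiveSpecialLinearGroup (Fin 2) (ZMod p)) ∧
        (2 * d = p + 1 ∨ 2 * d = p - 1)) ∨
      (p = 17 ∧ d = 15 ∧ ∃ (A : Type) (_ : CommGroup A) (_ : Finite A),
        Nonempty (G ≃* Matrix.SpecialLinearGroup (Fin 2) (GaloisField 2 4) × A)) := by
  classical
  obtain ⟨K, hKn, hKZ, hKc, Q, hQc, hQn, ζ, hζ, hζf, hζd⟩ := hred
  have hp' : p.Prime := Fact.out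
  rcases H15.Degree.main hp7 Q hQc hQn ζ hζ hζf (by omega) with
    ⟨⟨e⟩, h2, -⟩ | ⟨f, t, -, hft, ht3, hadd, hf, -⟩
  · left
    refine ⟨?_, by rwa [hζd] at h2⟩
    let φ : G →* (G ⧸ K) ⧸ Subgroup.center (G ⧸ K) :=
      (QuotientGroup.mk' _).comp (QuotientGroup.mk' K)
    have hφs : Function.Surjective φ :=
      (QuotientGroup.mk'_surjective _).comp (QuotientGroup.mk'_surjective _)
    have hker : Subgroup.center G = φ.ker := by
      ext g
      rw [MonoidHom.mem_ker]
      refine ⟨fun h => (QuotientGroup.eq_one_iff _).2 ?_,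
        fun h => hKc g ((QuotientGroup.eq_one_iff _).1 h)⟩
      refine Subgroup.mem_center_iff.2 fun q => ?_
      obtain ⟨a, rfl⟩ := QuotientGroup.mk'_surjective K q
      show QuotientGroup.mk' K a * QuotientGroup.mk' K g
        = QuotientGroup.mk' K g * QuotientGroup.mk' K a
      rw [← map_mul, ← map_mul, Subgroup.mem_center_iff.1 h a]
    exact ⟨((QuotientGroup.quotientMulEquivOfEq hker).trans
      (QuotientGroup.quotientKerEquivOfSurjective φ hφs)).trans e⟩
  · rw [hζd] at hadd
    rcases arith hp' hp7 hd hp hft ht3 hadd hf with hd2 | ⟨h19, h16⟩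
    · right
      obtain ⟨m, F, iF, iFF, hpm, hF, ⟨eF⟩⟩ :=
        H15.PSubTwo.main (by omega) Q hQc hQn ζ hζ hζf (hζd.trans hd2)
      obtain ⟨h17, rfl⟩ := pow_two_add_one hp7 (by omega) hp' hpm
      exact ⟨h17, by omega, lift_seventeen h17 (by omega) P hnn χ hχ hfaith hdeg K hKZ hKc Q hQc
        hQn (by rw [hF]; norm_num) eF⟩
    · exact (H14.Deg16.false_of_degree_sixteen h19 Q hQc hQn ζ hζ hζf (hζd.trans h16)).elim

end H17.SmallDeg
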